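import Cfsg.Agent.A9T.A4a
import Cfsg.Agent.A9R.CA2
import Cfsg.Agent.A9R.FU

/-! S3339, piece A4: the normaliser of `⟨z⟩` (helper11). -/

set_option autoImplicit false

namespace Cfsg.Agent.A9T

open Equiv Subgroup

variable {G : Type*} [Group G]

theorem a4_split {D : Type*} [Group D] {K J : Subgroup G} (ι : D →* G) (hι : ∀ δ, ι δ ∈ K)
    (hn : ∀ δ, ∀ j ∈ J, ι δ * j * (ι δ)⁻¹ ∈ J) (hu : ∀ δ, ι δ ∈ J → δ = 1)
    (hex : ∀ g ∈ K, ∃ δ, g * (ι δ)⁻¹ ∈ J) :
    ∃ e : K →* D, Function.Surjective e ∧ ∀ g, e g = 1 ↔ (g : G) ∈ J := by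
  choose f hf using hex
  have uq : ∀ (g : G) (a b : D), g * (ι a)⁻¹ ∈ J → g * (ι b)⁻¹ ∈ J → a = b := by
    intro g a b ha hb
    have := J.mul_mem (J.inv_mem ha) hb
    rw [show (g * (ι a)⁻¹)⁻¹ * (g * (ι b)⁻¹) = ι (a * b⁻¹) by rw [map_mul, map_inv]; group] at this
    exact mul_inv_eq_one.1 (hu _ this)
  refine ⟨MonoidHom.mk' (fun g => f g.1 g.2) fun a b => ?_, fun δ => ⟨⟨ι δ, hι δ⟩, ?_⟩, fun g => ⟨fun h => ?_, fun h => ?_⟩⟩
  · refine uq (a.1 * b.1) _ _ (hf _ (a * b).2) ?_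
    have := J.mul_mem (hf _ a.2) (hn (f a.1 a.2) _ (hf _ b.2))
    rw [map_mul]
    convert this using 1
    group
  · exact uq (ι δ) _ _ (hf _ (hι δ)) (by rw [mul_inv_cancel]; exact J.one_mem)
  · have h1 : f g.1 g.2 = 1 := h
    have := hf g.1 g.2
    rwa [h1, map_one, inv_one, mul_one] at this
  · exact uq g.1 _ _ (hf _ g.2) (by rw [map_one, inv_one, mul_one]; exact h)

theorem G0.s6 [Finite G] {η : H1 →* G} (h : G0 η) :
    (∀ g, g * η z1 = η z1 * g → g ∈ η.range) ∨
      ∃ f : normalizer (zpowers (η z1) : Set G) →* Perm (Fin 6), Function.Surjective f ∧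
        ∀ g, f g = 1 ↔ (g : G) ∈ zpowers (η z1) := by
  have inj := h.inj
  have nr : ∀ x : H1, η x ∈ normalizer ((J1.map η : Subgroup G) : Set G) := fun x => by
    refine A9R.ca2_nrm ?_
    rintro _ ⟨j, hj, rfl⟩
    exact ⟨_, a4_nrm x hj, by simp⟩
  have rn : ∀ g ∈ normalizer ((J1.map η : Subgroup G) : Set G), g ∈ η.range := fun g hg =>
    h.nJ g fun x hx => (mem_normalizer_iff.1 hg x).1 hx
  have zJ : z1 ∈ J1 := subset_closure (by simp)
  have yJ : y1 ∈ J1 := subset_closure (by simp)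
  have uJ : u1 ∈ J1 := subset_closure (by simp)
  have cz : ∀ g, g * η z1 = η z1 * g → g ∈ normalizer (zpowers (η z1) : Set G) := fun g hg => by
    refine A9R.ca2_nrm ?_
    rintro _ ⟨n, rfl⟩
    have : g * η z1 * g⁻¹ = η z1 := by rw [hg, mul_inv_cancel_right]
    show g * η z1 ^ n * g⁻¹ ∈ _
    rw [← conj_zpow, this]
    exact zpow_mem (mem_zpowers _) n
  have card : Nat.card (J1.map η) = 27 := by rw [card_map_of_injective inj, a4_card]
  have cm : ∀ x ∈ J1.map η, ∀ y ∈ J1.map η, x * y = y * x := by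
    rintro _ ⟨x, hx, rfl⟩ _ ⟨y, hy, rfl⟩
    obtain ⟨i, j, k, rfl⟩ := a4_mem hx
    obtain ⟨i', j', k', rfl⟩ := a4_mem hy
    rw [← map_mul, ← map_mul, a4w_mul, a4w_mul, add_comm i, add_comm j, add_comm k]
  have hex : ∀ g ∈ normalizer ((J1.map η : Subgroup G) : Set G) ⊓ normalizer (zpowers (η z1) : Set G),
      ∃ δ, g * ((η.comp a4i) δ)⁻¹ ∈ J1.map η := by
    rintro g ⟨g1, g2⟩
    obtain ⟨x, rfl⟩ := rn g g1
    have e1 := (mem_normalizer_iff.1 g2 (η z1)).1 (mem_zpowers _)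
    rw [← map_inv, ← map_mul, ← map_mul, ← MonoidHom.map_zpowers] at e1
    obtain ⟨δ, hδ⟩ := a4_ex x ((mem_map_iff_mem inj).1 e1)
    exact ⟨δ, _, hδ, by simp⟩
  obtain ⟨e, es, ek⟩ := a4_split (K := normalizer ((J1.map η : Subgroup G) : Set G) ⊓
      normalizer (zpowers (η z1) : Set G)) (J := J1.map η) (η.comp a4i)
    (fun δ => ⟨nr _, by
      refine A9R.ca2_nrm ?_
      rintro _ ⟨n, rfl⟩
      show η (a4f δ) * η z1 ^ n * (η (a4f δ))⁻¹ ∈ _
      rw [← conj_zpow, ← map_inv, ← map_mul, ← map_mul]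
      rcases a4_z δ with e | e
      · rw [e]; exact zpow_mem (mem_zpowers _) n
      · rw [e, map_inv]; exact zpow_mem (inv_mem (mem_zpowers _)) n⟩)
    (fun δ j hj => (mem_normalizer_iff.1 (nr (a4i δ)) j).1 hj)
    (fun δ hδ => by
      obtain ⟨i, j, k, e⟩ := a4_mem ((mem_map_iff_mem inj).1 hδ)
      exact a4_u δ i j k e) hex
  have cK : Nat.card ↥(normalizer ((J1.map η : Subgroup G) : Set G) ⊓ normalizer (zpowers (η z1) : Set G)) = 216 := by
    have h1 := e.ker.card_mul_index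
    rw [index_ker, MonoidHom.range_eq_top.2 es, card_top, DihedralGroup.nat_card] at h1
    have h2 : Nat.card e.ker = Nat.card (J1.map η) := by
      refine Nat.card_congr ⟨fun g => ⟨g.1.1, (ek _).1 g.2⟩, fun j => ⟨⟨j.1, ?_, ?_⟩, (ek _).2 j.2⟩, fun _ => rfl, fun _ => rfl⟩
      · exact le_normalizer j.2
      · exact cz _ (cm _ j.2 _ ⟨z1, zJ, rfl⟩)
    rw [h2, card] at h1
    omega
  rcases A9R.ca2 (J := J1.map η) (a := η z1) ⟨⟨fun a b => Subtype.ext (cm _ a.2 _ b.2)⟩⟩
    (by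
      rintro _ ⟨x, hx, rfl⟩
      obtain ⟨i, j, k, rfl⟩ := a4_mem hx
      rw [← map_pow, show a4w i j k ^ 3 = 1 by clear hx; revert i j k; decide +kernel, map_one])
    card ⟨z1, zJ, rfl⟩ (fun e => absurd (inj (e.trans (map_one η).symm)) (by decide +kernel))
    (fun d => by
      have d1 := A9R.fu_81 card (M := centralizer {η z1})
        (fun j hj => mem_centralizer_singleton_iff.2 (cm _ hj _ ⟨z1, zJ, rfl⟩)) d
      have d2 := d1.trans (card_dvd_of_le (inf_le_inf_left (normalizer ((J1.map η : Subgroup G) : Set G))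
        (fun g hg => cz g (mem_centralizer_singleton_iff.1 hg) :
          centralizer {η z1} ≤ normalizer (zpowers (η z1) : Set G))))
      rw [cK] at d2
      omega)
    (fun g hg => by
      have c : ∀ j ∈ J1.map η, j * g = g * j := fun j hj => mem_centralizer_iff.1 hg j hj
      obtain ⟨δ, hδ⟩ := hex g ⟨centralizer_le_normalizer _ hg, cz g (c _ ⟨z1, zJ, rfl⟩).symm⟩
      have k : ∀ x ∈ J1, a4f δ * x = x * a4f δ := fun x hx => by
        apply inj
        have c1 := c _ ⟨x, hx, rfl⟩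
        have c2 := cm _ hδ _ ⟨x, hx, rfl⟩
        change g * (η (a4f δ))⁻¹ * η x = η x * (g * (η (a4f δ))⁻¹) at c2
        rw [map_mul, map_mul]
        rw [← mul_assoc, c1, mul_assoc, mul_assoc] at c2
        have c3 := mul_left_cancel c2
        calc η (a4f δ) * η x = η (a4f δ) * (η x * (η (a4f δ))⁻¹) * η (a4f δ) := by group
          _ = η x * η (a4f δ) := by rw [← c3]; group
      have := a4_c δ (k _ yJ) (k _ uJ)
      rwa [this, map_one, inv_one, mul_one] at hδ)
    (by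
      rintro _ ⟨x, hx, rfl⟩ hx'
      obtain ⟨i, j, k, rfl⟩ := a4_mem hx
      have hjk : j ≠ 0 ∨ k ≠ 0 := by
        by_contra hc
        push Not at hc
        obtain ⟨rfl, rfl⟩ := hc
        refine hx' ⟨i.val, ?_⟩
        simp [a4w]
      obtain ⟨m, w, -, e⟩ := a4_b i j k hjk
      refine ⟨η (z1 ^ m.val * a4w i j k), ?_, ?_, ?_⟩
      · rw [map_mul, map_pow]
        exact mul_mem (pow_mem (subset_closure (by simp)) _) (subset_closure (by simp))
      · rw [e]
        intro e1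
        have := inj (e1.trans (map_one η).symm)
        rw [conj_eq_one_iff] at this
        exact absurd this (by decide +kernel)
      · intro g hg
        have c := mem_centralizer_singleton_iff.1 hg
        rw [e, map_mul, map_mul, map_inv] at c
        obtain ⟨x, hx⟩ := h.cb ((η w)⁻¹ * g * η w) (by
          calc (η w)⁻¹ * g * η w * η (y1 * u1) = (η w)⁻¹ * (g * (η w * η (y1 * u1) * (η w)⁻¹)) * η w := by group
            _ = _ := by rw [c]; group)
        have : g = η (w * x * w⁻¹) := by rw [map_mul, map_mul, map_inv, hx]; group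
        rw [this]
        exact nr _)
    e es ek with hl | hr
  · exact Or.inl fun g hg => rn g (hl (cz g hg))
  · exact Or.inr hr

end Cfsg.Agent.A9T
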