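import Cfsg.Agent.A9T.H
import Cfsg.Agent.A9R.NS

/-! The case `C(z) ≤ H` of the 3-local recognition of `Alt(9)` (helper4). -/

set_option autoImplicit false

namespace Cfsg.Agent.A9T

open Equiv Subgroup Cfsg.Agent.S3702 Cfsg.Agent.Hig

theorem a7_rep : ∀ m, ∃ i x, ∀ a, repT m a = pf x (wf i a) := by decide +kernel
theorem a7_jel : ∀ i j k, ∃ x, ∀ a, rot i j k a = pf x a := by decide +kernel

theorem a7_eq : H1 = closure ({Equiv.swap (0 : Fin 9) 1 * Equiv.swap 1 2,
        Equiv.swap (0 : Fin 9) 3 * Equiv.swap 3 6 * (Equiv.swap (1 : Fin 9) 4 * Equiv.swap 4 7) * (Equiv.swap (2 : Fin 9) 5 * Equiv.swap 5 8),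
        Equiv.swap (0 : Fin 9) 1 * Equiv.swap 3 4, Equiv.swap (0 : Fin 9) 3 * Equiv.swap 1 4 * Equiv.swap 2 5 * Equiv.swap 6 7} : Set (Equiv.Perm (Fin 9))) := by
  refine le_antisymm (fun g hg => ?_) ((closure_le _).2 ?_)
  · rw [gens.1, gens.2.1, gens.2.2.1, gens.2.2.2.1]
    set X := closure ({p0 (1, 0, 0), w0 1, w0 2, w0 3} : Set (Perm (Fin 9))) with hX
    have mw : ∀ i, w0 i ∈ X := fun i => by
      induction i using WellFoundedLT.induction with
      | ind i ih =>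
        rcases gens.2.2.2.2.2.2.1 i with rfl | ⟨j, hj, c⟩
        · exact gens.2.2.2.2.1 ▸ one_mem _
        · rcases c with c | c | c <;> rw [← c, w0_mul] <;>
            exact mul_mem (subset_closure (by simp)) (ih j hj)
    have mp : ∀ x, p0 x ∈ X := fun x => by
      have k : ∀ (n : ℕ) i, p0 (n • eS i (1, 0, 0)) ∈ X := fun n i => by
        induction n with
        | zero => exact zero_smul ℕ (eS i (1, 0, 0)) ▸ gens.2.2.2.2.2.1 ▸ one_mem _
        | succ n ih =>
          rw [succ_nsmul, p0_add, eq_mul_inv_of_mul_eq (w0_p0 i _)]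
          exact mul_mem ih (mul_mem (mul_mem (mw _) (subset_closure (by simp))) (inv_mem (mw _)))
      rw [gens.2.2.2.2.2.2.2 x, p0_add, p0_add]
      exact mul_mem (mul_mem (k _ _) (k _ _)) (k _ _)
    obtain ⟨i, j, k, m, e⟩ := H1_enum ⟨g, hg⟩
    obtain ⟨i', x, h1⟩ := a7_rep m
    obtain ⟨y, h2⟩ := a7_jel i j k
    have e1 : repP m = p0 x * w0 i' := Equiv.ext fun a => (rep_app m a).trans (h1 a)
    have e2 : (jel i j k).1 = p0 y := Equiv.ext fun a => (jel_app i j k a).trans (h2 a)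
    have e3 : g = (jel i j k).1 * repP m := congrArg Subtype.val e
    rw [e3, e1, e2]
    exact mul_mem (mp _) (mul_mem (mp _) (mw _))
  · rintro _ (rfl | rfl | rfl | rfl) <;> exact mem_H1.2 (by decide +kernel)

theorem a7_y : ∀ m, m = 0 ∨ ∃ m', (∃ i j k, rep m' * rep m * (rep m')⁻¹ * rep m * (rep m' * rep m * (rep m')⁻¹ * rep m) = jel i j k) ∧
    ¬ ∃ i j k, rep m' * rep m * (rep m')⁻¹ * rep m = jel i j k := by decide +kernel

theorem a7_core {N : Subgroup H1} (n : N.Normal) (p : IsPGroup 3 N) : N ≤ J1 := fun x hx => by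
  have := J1_normal
  obtain ⟨i, j, k, m, rfl⟩ := H1_enum x
  have r0 : rep 0 = 1 := rfl
  rcases a7_y m with rfl | ⟨m', h1, h2⟩
  · rw [el, r0, mul_one]; exact jel_mem i j k
  exfalso
  have n' : (N.map (QuotientGroup.mk' J1)).Normal := n.map _ (QuotientGroup.mk'_surjective _)
  have a : QuotientGroup.mk' J1 (rep m) ∈ N.map (QuotientGroup.mk' J1) := ⟨_, hx, by
    rw [el, map_mul, show QuotientGroup.mk' J1 (jel i j k) = 1 from (QuotientGroup.eq_one_iff _).2 (jel_mem i j k), one_mul]⟩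
  have b := mul_mem (n'.conj_mem _ a (QuotientGroup.mk' J1 (rep m'))) a
  rw [← map_inv, ← map_mul, ← map_mul, ← map_mul] at b
  obtain ⟨e, he⟩ := p.map (QuotientGroup.mk' J1) ⟨_, b⟩
  have c1 := orderOf_dvd_of_pow_eq_one (show QuotientGroup.mk' J1 (rep m' * rep m * (rep m')⁻¹ * rep m) ^ 3 ^ e = 1 from
    congrArg Subtype.val he)
  have c2 := orderOf_dvd_of_pow_eq_one (show QuotientGroup.mk' J1 (rep m' * rep m * (rep m')⁻¹ * rep m) ^ 2 = 1 by
    rw [pow_two, ← map_mul]; exact (QuotientGroup.eq_one_iff _).2 (mem_J1.2 h1))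
  exact h2 (mem_J1.1 ((QuotientGroup.eq_one_iff _).1 (orderOf_eq_one_iff.1
    (Nat.eq_one_of_dvd_coprimes ((by decide : Nat.Coprime 3 2).pow_left e) c1 c2))))

theorem a7_cls : ∀ i j k, jel i j k = 1 ∨ ∃ m, rep m * jel i j k * (rep m)⁻¹ = z1 ∨
    rep m * jel i j k * (rep m)⁻¹ = y1 * u1 ∨ rep m * jel i j k * (rep m)⁻¹ = z1 * y1 * u1 := by decide +kernel

theorem G0.top {G : Type*} [Group G] [Finite G] {η : H1 →* G} (h : G0 η)
    (hz : ∀ g, g * η z1 = η z1 * g → g ∈ η.range) : η.range = ⊤ := by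
  have := Fact.mk Nat.prime_three
  let f : H1 ≃* η.range := MonoidHom.ofInjective h.inj
  refine A9R.eq_top _ ⟨f.symm.trans (MulEquiv.subgroupCongr a7_eq)⟩ _ rfl ?_
  rintro _ ⟨u, hu, rfl⟩ u1' g hg
  obtain ⟨x, rfl⟩ := f.surjective u
  have hx : x ∈ J1 := a7_core (N := (pCore 3 η.range).comap f.toMonoidHom) inferInstance
    ((Solv.isPGroup_pCore 3 η.range).comap_of_injective _ f.injective) hu
  obtain ⟨i, j, k, rfl⟩ := mem_J1.1 hx
  have c : g * η (jel i j k) = η (jel i j k) * g := mem_centralizer_singleton_iff.1 hg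
  rcases a7_cls i j k with e | ⟨m, e⟩
  · exact absurd (show η (jel i j k) = 1 by rw [e, map_one]) u1'
  have key : ∀ w, rep m * jel i j k * (rep m)⁻¹ = w → η (rep m) * g * (η (rep m))⁻¹ * η w = η w * (η (rep m) * g * (η (rep m))⁻¹) := by
    rintro _ rfl
    rw [map_mul, map_mul, map_inv]
    calc _ = η (rep m) * (g * η (jel i j k)) * (η (rep m))⁻¹ := by group
      _ = _ := by rw [c]; group
  have : η (rep m) * g * (η (rep m))⁻¹ ∈ η.range := by
    rcases e with e | e | e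
    exacts [hz _ (key _ e), h.cb _ (key _ e), h.cc _ (key _ e)]
  have r : η (rep m) ∈ η.range := ⟨_, rfl⟩
  simpa [mul_assoc] using mul_mem (mul_mem (inv_mem r) this) r

end Cfsg.Agent.A9T
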